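import Cfsg.Agent.H24.Q5.Mat
import Cfsg.Agent.S0245

/-!
# S5211, block q = 5, (M1): elements of order 5 and centralizers (helper35)
-/

set_option autoImplicit false
set_option maxRecDepth 100000

namespace Cfsg.Agent.H35.Q5

open Matrix Cfsg.Agent.H24.Q5

/-- the matrices commuting with `mA` -/
def hm (a b c d : ZMod 5) : M5 := !![a, -3 * b, 3 * b + c, b + c + d; 0, a, -2 * b, -b - 2 * c; 0, 0, a, b; 0, 0, 0, a]

theorem comm_entries {g : M5} (h : g * mA = mA * g) (i j : Fin 4) : (g * mA) i j = (mA * g) i j := by rw [h]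

theorem eq_hm {g : M5} (h : g * mA = mA * g) : g = hm (g 3 3) (g 2 3) (2 * (g 1 3 + g 2 3))
    (g 0 3 - g 2 3 - 2 * (g 1 3 + g 2 3)) := by
  have E := comm_entries h
  have f5 : (5 : ZMod 5) = 0 := by decide
  have E20 := E 2 0
  have E10 := E 1 0
  have E00 := E 0 0
  have E21 := E 2 1
  have E11 := E 1 1
  have E01 := E 0 1
  have E22 := E 2 2
  have E12 := E 1 2
  have E02 := E 0 2
  have E23 := E 2 3
  have E13 := E 1 3
  have E03 := E 0 3
  simp [Matrix.mul_apply, Fin.sum_univ_four, mA] at E20 E10 E00 E21 E11 E01 E22 E12 E02 E23 E13 E03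
  have k20 : g 2 0 = 0 := by linear_combination 3 * E10 - 3 * E20 - g 2 0 * f5
  have k10 : g 1 0 = 0 := by linear_combination 2 * E00 + 6 * k20 + 2 * E20 - g 1 0 * f5
  have k31 : g 3 1 = 0 := by linear_combination -E21 - 3 * k20
  have k21 : g 2 1 = 0 := by linear_combination 3 * E11 + 9 * k10 - 3 * k31 - g 2 1 * f5
  have k11 : g 1 1 = g 0 0 := by linear_combination 2 * E01 + 6 * k21 + 2 * k31 - (g 1 1 - g 0 0) * f5
  have k32 : g 3 2 = 0 := by linear_combination -E22 + 3 * k20 - 2 * k21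
  have k22 : g 2 2 = g 1 1 := by linear_combination 3 * E12 - 9 * k10 - 3 * k32 - (g 2 2 - g 1 1) * f5
  have k33 : g 2 2 = g 3 3 := by linear_combination E23 - k20 + k21
  have k12 : g 1 2 = -2 * g 2 3 := by linear_combination E13 - k10 + k33 - k22
  have k01 : g 0 1 = -3 * g 2 3 := by
    linear_combination -3 * E02 - 9 * k11 - 9 * k22 + 9 * k12 - 3 * k32 - (g 0 1 + 3 * g 2 3) * f5
  have k02 : g 0 2 = 3 * g 2 3 + 2 * (g 1 3 + g 2 3) := by
    linear_combination E03 + k01 + k11 + k22 - k33 - (g 1 3 + g 2 3) * f5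
  refine Matrix.ext fun i j => ?_
  fin_cases i <;> fin_cases j
  · exact (k11.symm.trans k22.symm).trans k33
  · exact k01
  · exact k02
  · show g 0 3 = g 2 3 + 2 * (g 1 3 + g 2 3) + (g 0 3 - g 2 3 - 2 * (g 1 3 + g 2 3))
    ring
  · exact k10
  · exact k22.symm.trans k33
  · exact k12
  · show g 1 3 = -g 2 3 - 2 * (2 * (g 1 3 + g 2 3))
    linear_combination (g 1 3 + g 2 3) * f5
  · exact k20
  · exact k21
  · exact k33
  · rfl
  · exact E20
  · exact k31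
  · exact k32
  · rfl

/-- the powers of `mA` -/
def pw (k : ZMod 5) : M5 := hm 1 k (3 * k * (k - 1)) (k * (k - 1) * (k - 2))

/-- `exp (b N ^ 3)` -/
def zz (b : ZMod 5) : M5 := !![1, 0, 0, b; 0, 1, 0, 0; 0, 0, 1, 0; 0, 0, 0, 1]

theorem pw_eq : ∀ k : ZMod 5, mA ^ k.val = pw k := by decide +kernel

theorem pow_ne : ∀ k : ZMod 5, k ≠ 0 → (mA ^ k.val - 1) ^ 3 ≠ 0 := by decide +kernel

theorem zz_pow : ∀ b : ZMod 5, zz b ^ 5 = 1 := by decide +kernel

theorem zz_nil : ∀ b : ZMod 5, (zz b - 1) ^ 3 = 0 := by decide +kernel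

theorem zz_one : ∀ b : ZMod 5, zz b = 1 → b = 0 := by decide +kernel

theorem key : ∀ a b c d : ZMod 5, a * a = 1 → a * b + 2 * a * c - b * b = 0 →
    ∃ e, hm a b c d * hm a b c d * pw (-2 * a * b) = zz e ∧
      (e = 0 → hm a b c d = pw (a * b) ∨ hm a b c d = -pw (a * b)) := by decide +kernel

theorem gA_coe : (gA : M5) = mA := rfl

theorem gA_pow_coe (k : ℕ) : ((gA ^ k : M5ˣ) : M5) = mA ^ k := by rw [Units.val_pow_eq_pow_val, gA_coe]

theorem gA_five : gA ^ 5 = 1 := Units.ext (by rw [gA_pow_coe, mA5]; rfl)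

theorem gA_ne : gA ≠ 1 := by
  intro h
  have h1 : mA = 1 := congrArg Units.val h
  revert h1
  decide +kernel

theorem gA_mod (k : ℕ) : gA ^ k = gA ^ ((k : ZMod 5).val) := by
  rw [ZMod.val_natCast]
  conv_lhs => rw [← Nat.div_add_mod k 5, pow_add, pow_mul, gA_five, one_pow, one_mul]

/-- a diagonal matrix conjugating `mA` to `mA ^ 2` resp. `mA ^ 3` -/
def Dg (r : ZMod 5) : M5 := !![r ^ 3, 0, 0, 0; 0, r ^ 2, 0, 0; 0, 0, r, 0; 0, 0, 0, 1]

theorem Dg_inv : ∀ r : ZMod 5, r ≠ 0 → Dg r * Dg (r ^ 3) = 1 ∧ Dg (r ^ 3) * Dg r = 1 := by decide +kernel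

theorem Dg_conj : ∀ r : ZMod 5, r ≠ 0 → Dg (r ^ 3) * pw r = mA * Dg (r ^ 3) := by decide +kernel

theorem sq_ne : ∀ r x : ZMod 5, r = 2 ∨ r = 3 → r ^ 3 * x * x ≠ 1 := by decide +kernel

/-! ### the order -/

/-- the change of coordinates to the standard symplectic form -/
def Qm : Matrix (Fin 2 ⊕ Fin 2) (Fin 4) (ZMod 5) := Matrix.of fun i j => match i with
  | Sum.inl 0 => if j = 3 then 1 else 0
  | Sum.inl 1 => if j = 2 then 3 else 0
  | Sum.inr 0 => if j = 0 then 1 else 0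
  | Sum.inr 1 => if j = 1 then 1 else 0

def Qi : Matrix (Fin 4) (Fin 2 ⊕ Fin 2) (ZMod 5) := Matrix.of fun j i => match i with
  | Sum.inl 0 => if j = 3 then 1 else 0
  | Sum.inl 1 => if j = 2 then 2 else 0
  | Sum.inr 0 => if j = 0 then 1 else 0
  | Sum.inr 1 => if j = 1 then 1 else 0

theorem Qi_Qm : Qi * Qm = 1 := by decide +kernel

theorem Qm_Qi : Qm * Qi = 1 := by decide +kernel

theorem Qm_form : Qmᵀ * J (Fin 2) (ZMod 5) * Qm = Om := by decide +kernel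

theorem Qi_form : Qiᵀ * Om * Qi = J (Fin 2) (ZMod 5) := by
  rw [← Qm_form]
  calc Qiᵀ * (Qmᵀ * J (Fin 2) (ZMod 5) * Qm) * Qi = (Qm * Qi)ᵀ * J (Fin 2) (ZMod 5) * (Qm * Qi) := by
        rw [Matrix.transpose_mul]; simp only [Matrix.mul_assoc]
    _ = _ := by rw [Qm_Qi, Matrix.transpose_one, Matrix.one_mul, Matrix.mul_one]

/-- the equations of an isometry commuting with `mA` -/
theorem iso_eqs {a b c d : ZMod 5} (h : (hm a b c d)ᵀ * Om * hm a b c d = Om) :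
    a * a = 1 ∧ a * b + 2 * a * c - b * b = 0 := by
  have f5 : (5 : ZMod 5) = 0 := by decide
  have h03 := congrFun (congrFun h 0) 3
  have h23 := congrFun (congrFun h 2) 3
  simp [Matrix.mul_apply, Fin.sum_univ_four, hm, Om, Matrix.transpose_apply] at h03 h23
  constructor
  · linear_combination h03
  · linear_combination h23 - (a * b + a * c - b * b) * f5

theorem iso_D {r a b c d : ZMod 5} (h : (Dg r * hm a b c d)ᵀ * Om * (Dg r * hm a b c d) = Om) :
    r ^ 3 * a * a = 1 := by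
  have h03 := congrFun (congrFun h 0) 3
  simp [Matrix.mul_apply, Fin.sum_univ_four, hm, Om, Dg, Matrix.transpose_apply] at h03
  linear_combination h03

section

variable {L : Subgroup M5ˣ} (hL : Hyp L)

include hL

theorem card_sylow (P : Sylow 5 L) : Nat.card P ∣ 5 := by
  have : Fact (Nat.Prime 5) := ⟨by norm_num⟩
  obtain ⟨n, hn⟩ := IsPGroup.iff_card.1 P.2
  have h1 : Nat.card P ∣ Nat.card L := Subgroup.card_subgroup_dvd_card _
  rw [hn] at h1 ⊢
  have h2 : n ≤ 1 := by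
    by_contra h
    exact hL.card ((pow_dvd_pow 5 (show 2 ≤ n by omega)).trans h1)
  exact (pow_dvd_pow 5 h2).trans (by norm_num)

/-- elements of order 5 are conjugate to powers of `gA` -/
theorem conj_gA {g : M5ˣ} (hg : g ∈ L) (h5 : g ^ 5 = 1) :
    ∃ x ∈ L, ∃ k : ℕ, x * gA ^ k * x⁻¹ = g := by
  have : Fact (Nat.Prime 5) := ⟨by norm_num⟩
  let a : L := ⟨gA, hL.memA⟩
  let b : L := ⟨g, hg⟩
  have ha : orderOf a = 5 := orderOf_eq_prime (Subtype.ext gA_five) (fun h => gA_ne (congrArg Subtype.val h))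
  have hap : IsPGroup 5 (Subgroup.zpowers a) := IsPGroup.of_card (n := 1) (by rw [Nat.card_zpowers, ha, pow_one])
  have hbp : IsPGroup 5 (Subgroup.zpowers b) := by
    intro x
    obtain ⟨i, hi⟩ := x.2
    refine ⟨1, Subtype.ext ?_⟩
    rw [pow_one, SubgroupClass.coe_pow, ← hi, ← zpow_natCast, ← _root_.zpow_mul, mul_comm, _root_.zpow_mul]
    have : b ^ ((5 : ℕ) : ℤ) = 1 := by rw [zpow_natCast]; exact Subtype.ext h5
    rw [this, _root_.one_zpow]
    rfl
  obtain ⟨P, hP⟩ := hap.exists_le_sylow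
  obtain ⟨Q, hQ⟩ := hbp.exists_le_sylow
  have hPa : Subgroup.zpowers a = P := by
    apply Subgroup.eq_of_le_of_card_ge hP
    rw [Nat.card_zpowers, ha]
    exact Nat.le_of_dvd (by norm_num) (card_sylow hL P)
  obtain ⟨x, hx⟩ := MulAction.exists_smul_eq L P Q
  have hb : b ∈ (Q : Subgroup L) := hQ (Subgroup.mem_zpowers b)
  rw [← hx, Sylow.coe_subgroup_smul, ← hPa] at hb
  obtain ⟨y, hy, hyb⟩ := hb
  obtain ⟨k, hk⟩ := (mem_powers_iff_mem_zpowers.2 hy)
  refine ⟨x, x.2, k, ?_⟩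
  have h1 := congrArg (fun t : L => (t : M5ˣ)) hyb
  rw [← hk] at h1
  exact h1

theorem nil_ne {g : M5ˣ} (hg : g ∈ L) (h5 : g ^ 5 = 1) (h1 : g ≠ 1) : ((g : M5) - 1) ^ 3 ≠ 0 := by
  obtain ⟨x, -, k, hk⟩ := conj_gA hL hg h5
  rw [gA_mod] at hk
  have hk0 : (k : ZMod 5) ≠ 0 := by
    intro h
    rw [h, ZMod.val_zero, pow_zero, mul_one, mul_inv_cancel] at hk
    exact h1 hk.symm
  intro h
  apply pow_ne _ hk0
  have h2 : (g : M5) - 1 = (x : M5) * (mA ^ (k : ZMod 5).val - 1) * ((x⁻¹ : M5ˣ) : M5) := by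
    rw [mul_sub, sub_mul, mul_one, ← Units.val_mul, mul_inv_cancel, Units.val_one, ← gA_pow_coe, ← Units.val_mul,
      ← Units.val_mul, hk]
  have h3 : ∀ n : ℕ, ((g : M5) - 1) ^ n = (x : M5) * (mA ^ (k : ZMod 5).val - 1) ^ n * ((x⁻¹ : M5ˣ) : M5) := by
    intro n
    induction n with
    | zero => rw [pow_zero, pow_zero, mul_one, ← Units.val_mul, mul_inv_cancel, Units.val_one]
    | succ n ih =>
      rw [pow_succ, ih, h2, pow_succ]
      have h4 : ((x⁻¹ : M5ˣ) : M5) * (x : M5) = 1 := by rw [← Units.val_mul, inv_mul_cancel, Units.val_one]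
      calc (x : M5) * (mA ^ (k : ZMod 5).val - 1) ^ n * ((x⁻¹ : M5ˣ) : M5) *
            ((x : M5) * (mA ^ (k : ZMod 5).val - 1) * ((x⁻¹ : M5ˣ) : M5))
          = (x : M5) * (mA ^ (k : ZMod 5).val - 1) ^ n * (((x⁻¹ : M5ˣ) : M5) * (x : M5)) *
            (mA ^ (k : ZMod 5).val - 1) * ((x⁻¹ : M5ˣ) : M5) := by simp only [mul_assoc]
        _ = _ := by rw [h4, mul_one]; simp only [mul_assoc]
  rw [h3] at h
  have h4 : ((x⁻¹ : M5ˣ) : M5) * (x : M5) = 1 := by rw [← Units.val_mul, inv_mul_cancel, Units.val_one]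
  have h5 := congrArg (fun t => ((x⁻¹ : M5ˣ) : M5) * t * (x : M5)) h
  simp only [mul_zero, zero_mul] at h5
  calc (mA ^ (k : ZMod 5).val - 1) ^ 3 = (((x⁻¹ : M5ˣ) : M5) * (x : M5)) * (mA ^ (k : ZMod 5).val - 1) ^ 3 *
        (((x⁻¹ : M5ˣ) : M5) * (x : M5)) := by rw [h4, one_mul, mul_one]
    _ = ((x⁻¹ : M5ˣ) : M5) * ((x : M5) * (mA ^ (k : ZMod 5).val - 1) ^ 3 * ((x⁻¹ : M5ˣ) : M5)) * (x : M5) := by
      simp only [mul_assoc]
    _ = 0 := h5

theorem comm_gA {g : M5ˣ} (hg : g ∈ L) (h : g * gA = gA * g) : ∃ k : ℕ, g = gA ^ k ∨ g = - gA ^ k := by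
  have h1 : (g : M5) * mA = mA * g := by
    have := congrArg Units.val h
    rwa [Units.val_mul, Units.val_mul, gA_coe] at this
  have h2 := eq_hm h1
  set a := (g : M5) 3 3
  set b := (g : M5) 2 3
  set c := 2 * ((g : M5) 1 3 + b)
  set d := (g : M5) 0 3 - b - c
  have h3 := hL.iso g hg
  rw [h2] at h3
  obtain ⟨e1, e2⟩ := iso_eqs h3
  obtain ⟨e, h4, h5⟩ := key a b c d e1 e2
  rw [← h2, ← pw_eq] at h4
  -- the element
  let z : M5ˣ := g * g * gA ^ (-2 * a * b).val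
  have hz : (z : M5) = zz e := by
    rw [← h4, Units.val_mul, Units.val_mul, gA_pow_coe]
  have hzL : z ∈ L := L.mul_mem (L.mul_mem hg hg) (L.pow_mem hL.memA _)
  have hz5 : z ^ 5 = 1 := Units.ext (by rw [Units.val_pow_eq_pow_val, hz, zz_pow]; rfl)
  have hz1 : z = 1 := by
    by_contra hne
    exact nil_ne hL hzL hz5 hne (by rw [hz, zz_nil])
  have he : e = 0 := zz_one e (by rw [← hz, hz1]; rfl)
  refine ⟨(a * b).val, ?_⟩
  rcases h5 he with h6 | h6
  · left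
    apply Units.ext
    rw [gA_pow_coe, pw_eq, ← h6]
    exact h2
  · right
    apply Units.ext
    rw [Units.val_neg, gA_pow_coe, pw_eq, ← h6]
    exact h2

theorem norm_gA {g : M5ˣ} (hg : g ∈ L) {k : ℕ} (h : g * gA * g⁻¹ = gA ^ k) : gA ^ k = gA ∨ gA ^ k = gA⁻¹ := by
  rw [gA_mod] at h ⊢
  generalize (k : ZMod 5) = r at h ⊢
  have h5 : ∀ r : ZMod 5, r = 0 ∨ r = 1 ∨ r = 4 ∨ r = 2 ∨ r = 3 := by decide
  rcases h5 r with rfl | rfl | rfl | hr
  · exfalso
    rw [ZMod.val_zero, pow_zero] at h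
    apply gA_ne
    have h1 : g * gA = g := by
      have := congrArg (fun t => t * g) h
      simpa using this
    exact mul_eq_left.1 h1
  · left
    have : (1 : ZMod 5).val = 1 := rfl
    rw [this, pow_one]
  · right
    have : (4 : ZMod 5).val = 4 := rfl
    rw [this, eq_inv_iff_mul_eq_one, ← pow_succ]
    exact gA_five
  · exfalso
    have hr0 : r ≠ 0 := by
      rcases hr with rfl | rfl <;> decide
    have h1 : (g : M5) * mA = pw r * g := by
      have h2 : g * gA = gA ^ r.val * g := by rw [← h, inv_mul_cancel_right]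
      have h3 := congrArg Units.val h2
      rwa [Units.val_mul, Units.val_mul, gA_coe, gA_pow_coe, pw_eq] at h3
    have h2 : (Dg (r ^ 3) * g) * mA = mA * (Dg (r ^ 3) * g) := by
      rw [mul_assoc, h1, ← mul_assoc, Dg_conj r hr0, mul_assoc]
    have h3 := eq_hm h2
    have h4 : (g : M5) = Dg r * (Dg (r ^ 3) * g) := by rw [← mul_assoc, (Dg_inv r hr0).1, one_mul]
    have h6 := hL.iso g hg
    rw [h4, h3] at h6
    exact sq_ne r _ hr (iso_D h6)

/-- `L` embeds in the symplectic group -/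
def toSp : L →* symplecticGroup (Fin 2) (ZMod 5) where
  toFun g := ⟨Qm * ((g : M5ˣ) : M5) * Qi, by
    rw [SymplecticGroup.mem_iff']
    calc (Qm * ((g : M5ˣ) : M5) * Qi)ᵀ * J (Fin 2) (ZMod 5) * (Qm * ((g : M5ˣ) : M5) * Qi)
        = Qiᵀ * (((g : M5ˣ) : M5)ᵀ * (Qmᵀ * J (Fin 2) (ZMod 5) * Qm) * ((g : M5ˣ) : M5)) * Qi := by
          rw [Matrix.transpose_mul, Matrix.transpose_mul]; simp only [Matrix.mul_assoc]
      _ = _ := by rw [Qm_form, hL.iso g g.2, Qi_form]⟩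
  map_one' := Subtype.ext (by
    show Qm * (1 : M5) * Qi = 1
    rw [Matrix.mul_one, Qm_Qi])
  map_mul' g h := Subtype.ext (by
    show Qm * (((g : M5ˣ) : M5) * ((h : M5ˣ) : M5)) * Qi =
      (Qm * ((g : M5ˣ) : M5) * Qi) * (Qm * ((h : M5ˣ) : M5) * Qi)
    calc Qm * (((g : M5ˣ) : M5) * ((h : M5ˣ) : M5)) * Qi
        = Qm * ((g : M5ˣ) : M5) * (1 : M5) * (((h : M5ˣ) : M5) * Qi) := by
          rw [Matrix.mul_one]; simp only [Matrix.mul_assoc]
      _ = _ := by rw [← Qi_Qm]; simp only [Matrix.mul_assoc])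

theorem toSp_injective : Function.Injective (toSp hL) := by
  intro g h e
  have h1 : Qm * ((g : M5ˣ) : M5) * Qi = Qm * ((h : M5ˣ) : M5) * Qi := congrArg Subtype.val e
  have h2 : ∀ x : M5, Qi * (Qm * x * Qi) * Qm = x := by
    intro x
    calc Qi * (Qm * x * Qi) * Qm = (Qi * Qm) * x * (Qi * Qm) := by simp only [Matrix.mul_assoc]
      _ = x := by rw [Qi_Qm, Matrix.one_mul, Matrix.mul_one]
  apply Subtype.ext
  apply Units.ext
  rw [← h2 ((g : M5ˣ) : M5), h1, h2]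

theorem card_dvd : Nat.card L ∣ 2 ^ 7 * 3 ^ 2 * 5 * 13 := by
  have : Fact (Nat.Prime 5) := ⟨by norm_num⟩
  have h1 : Nat.card L ∣ Nat.card (symplecticGroup (Fin 2) (ZMod 5)) :=
    Subgroup.card_dvd_of_injective (toSp hL) (toSp_injective hL)
  rw [Cfsg.Agent.S0245.result (ZMod.card 5) 2, Finset.prod_range_succ, Finset.prod_range_one] at h1
  norm_num at h1
  have h25 := hL.card
  -- 9360000 = 2^7 3^2 5^4 13
  obtain ⟨j, hj⟩ : ∃ j, Nat.card L = (Nat.card L).gcd 5 * j := by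
    obtain ⟨j, hj⟩ := Nat.gcd_dvd_left (Nat.card L) 5
    exact ⟨j, hj⟩
  have h5 : (Nat.card L).gcd 5 ∣ 5 := Nat.gcd_dvd_right _ _
  have hj5 : ¬ 5 ∣ j := by
    intro h
    rcases (Nat.dvd_prime (by norm_num)).1 h5 with h6 | h6
    · have h7 : 5 ∣ Nat.card L := by
        rw [hj]
        exact h.mul_left _
      have h8 : 5 ∣ (Nat.card L).gcd 5 := Nat.dvd_gcd h7 dvd_rfl
      rw [h6] at h8
      omega
    · apply h25
      rw [hj, h6]
      exact Nat.mul_dvd_mul_left 5 h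
  have hjc : j.Coprime (5 ^ 4) := Nat.Coprime.pow_right 4 ((Nat.Prime.coprime_iff_not_dvd (by norm_num)).2 hj5).symm
  have h6 : j ∣ 5 ^ 4 * 14976 := by
    refine Dvd.dvd.trans ?_ (show 9360000 ∣ 5 ^ 4 * 14976 by norm_num)
    exact (Dvd.intro_left _ hj.symm).trans h1
  have h7 : j ∣ 14976 := hjc.dvd_of_dvd_mul_left h6
  rw [hj]
  calc (Nat.card L).gcd 5 * j ∣ 5 * 14976 := Nat.mul_dvd_mul h5 h7
    _ ∣ 2 ^ 7 * 3 ^ 2 * 5 * 13 := by norm_num

end

/-- **(M1)** -/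
theorem stM1 : StM1 := fun _ hL =>
  ⟨fun _ hg h5 _ => conj_gA hL hg h5, fun _ hg h5 h1 => nil_ne hL hg h5 h1, fun _ hg h => comm_gA hL hg h,
    fun _ hg _ h => norm_gA hL hg h, card_dvd hL⟩

end Cfsg.Agent.H35.Q5
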