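import Cfsg.Agent.H24.Q5.Fus
import Cfsg.Agent.H103.GT.Coord

/-!
# S5211, block `q = 5` (helper35): `Q_a` is the only subgroup of index 5 of `U5` with a derived subgroup of order at most 5
-/

set_option autoImplicit false

namespace Cfsg.Agent.H35.Q5

open Cfsg Subgroup Cfsg.Agent.H779.G2 Cfsg.Agent.H24.Q5

section comm

variable {K : Type*} [Field K]

theorem comm_coord (u c : GU K) (ha : c.a = 0) (hb : c.b = 0) :
    (u * c * u⁻¹ * c⁻¹).a = 0 ∧ (u * c * u⁻¹ * c⁻¹).b = 0 ∧ (u * c * u⁻¹ * c⁻¹).c = 0 ∧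
      (u * c * u⁻¹ * c⁻¹).d = - (2 * c.c * u.a) := by
  refine ⟨?_, ?_, ?_, ?_⟩
  · simp [ha]
  · simp [hb]
  · simp only [GU.mul_a, GU.mul_b, GU.mul_c, GU.inv_a, GU.inv_b, GU.inv_c, ha, hb]
    ring
  · simp only [GU.mul_a, GU.mul_b, GU.mul_c, GU.mul_d, GU.inv_a, GU.inv_b, GU.inv_c, GU.inv_d, ha, hb]
    ring

theorem comm_coord' (u c : GU K) (ha : c.a = 0) (hb : c.b = 0) (hc : c.c = 0) :
    (u * c * u⁻¹ * c⁻¹).e = - (3 * c.d * u.a) := by
  simp only [GU.mul_b, GU.mul_c, GU.mul_d, GU.mul_e, GU.inv_a, GU.inv_b, GU.inv_c, GU.inv_d, GU.inv_e, ha, hb, hc]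
  ring

theorem pow_coord (w : GU K) (ha : w.a = 0) (hb : w.b = 0) (hc : w.c = 0) (k : ℕ) :
    (w ^ k).a = 0 ∧ (w ^ k).b = 0 ∧ (w ^ k).c = 0 ∧ (w ^ k).d = k * w.d := by
  induction k with
  | zero => simp
  | succ k ih =>
    obtain ⟨h1, h2, h3, h4⟩ := ih
    rw [pow_succ]
    refine ⟨by simp [h1, ha], by simp [h2, hb], by simp [h3, hc, ha], ?_⟩
    simp only [GU.mul_d, h4, ha]
    push_cast
    ring

end comm

/-- commutators lie in subgroups of index 5 -/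
theorem comm_mem {M : Subgroup U5} (hM : M.index = 5) (x y : U5) : x * y * x⁻¹ * y⁻¹ ∈ M := by
  have hcard : Nat.card U5 = 5 ^ 6 := by
    rw [GU.card_eq, Nat.card_eq_fintype_card, ZMod.card]
  have hn : M.Normal := Subgroup.normal_of_index_eq_minFac_card (by rw [hM, hcard, Nat.Prime.pow_minFac (by norm_num) (by norm_num)])
  have h1 : Nat.card (U5 ⧸ M) = 5 := hM
  have : Fact (Nat.Prime 5) := ⟨by norm_num⟩
  have hcyc : IsCyclic (U5 ⧸ M) := isCyclic_of_prime_card h1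
  have hcomm : ∀ a b : U5 ⧸ M, a * b = b * a := by
    let _ := IsCyclic.commGroup (α := U5 ⧸ M)
    exact fun a b => mul_comm a b
  rw [← QuotientGroup.eq_one_iff]
  show (x : U5 ⧸ M) * y * (x : U5 ⧸ M)⁻¹ * (y : U5 ⧸ M)⁻¹ = 1
  rw [hcomm (x : U5 ⧸ M) y, mul_inv_cancel_right, mul_inv_cancel]

/-- **uniqueness of `Q_a`** -/
theorem eq_A5 (M : Subgroup U5) (hM : M.index = 5) (z : U5) (hz : z ^ 5 = 1)
    (h : ∀ x ∈ M, ∀ y ∈ M, x * y * x⁻¹ * y⁻¹ ∈ zpowers z) : M = A5 := by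
  have hcard : Nat.card U5 = 5 ^ 6 := by
    rw [GU.card_eq, Nat.card_eq_fintype_card, ZMod.card]
  have hle : M ≤ A5 := by
    intro u hu
    by_contra hua
    have hua' : u.a ≠ 0 := hua
    -- the commutators
    obtain ⟨xa, hxa⟩ : ∃ xa : U5, xa = ⟨1, 0, 0, 0, 0, 0⟩ := ⟨_, rfl⟩
    obtain ⟨xb, hxb⟩ : ∃ xb : U5, xb = ⟨0, 1, 0, 0, 0, 0⟩ := ⟨_, rfl⟩
    obtain ⟨c1, hc1⟩ : ∃ c1 : U5, c1 = xa * xb * xa⁻¹ * xb⁻¹ := ⟨_, rfl⟩
    have c1M : c1 ∈ M := hc1 ▸ comm_mem hM xa xb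
    have c1a : c1.a = 0 := by rw [hc1, hxa, hxb]; decide +kernel
    have c1b : c1.b = 0 := by rw [hc1, hxa, hxb]; decide +kernel
    have c1c : c1.c ≠ 0 := by rw [hc1, hxa, hxb]; decide +kernel
    obtain ⟨c2, hc2⟩ : ∃ c2 : U5, c2 = xa * c1 * xa⁻¹ * c1⁻¹ := ⟨_, rfl⟩
    have c2M : c2 ∈ M := hc2 ▸ comm_mem hM xa c1
    obtain ⟨c2a, c2b, c2c, c2d⟩ : c2.a = 0 ∧ c2.b = 0 ∧ c2.c = 0 ∧ c2.d = - (2 * c1.c * xa.a) :=
      hc2 ▸ comm_coord xa c1 c1a c1b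
    have hxa1 : xa.a = 1 := by rw [hxa]
    have c2d' : c2.d ≠ 0 := by
      rw [c2d, hxa1, mul_one, neg_ne_zero]
      exact mul_ne_zero (by decide) c1c
    obtain ⟨w1, hw1⟩ : ∃ w1 : U5, w1 = u * c1 * u⁻¹ * c1⁻¹ := ⟨_, rfl⟩
    obtain ⟨w2, hw2⟩ : ∃ w2 : U5, w2 = u * c2 * u⁻¹ * c2⁻¹ := ⟨_, rfl⟩
    obtain ⟨w1a, w1b, w1c, w1d⟩ : w1.a = 0 ∧ w1.b = 0 ∧ w1.c = 0 ∧ w1.d = - (2 * c1.c * u.a) :=
      hw1 ▸ comm_coord u c1 c1a c1b
    obtain ⟨w2a, w2b, w2c, w2d⟩ : w2.a = 0 ∧ w2.b = 0 ∧ w2.c = 0 ∧ w2.d = - (2 * c2.c * u.a) :=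
      hw2 ▸ comm_coord u c2 c2a c2b
    have w2e : w2.e = - (3 * c2.d * u.a) := hw2 ▸ comm_coord' u c2 c2a c2b c2c
    have w1d' : w1.d ≠ 0 := by
      rw [w1d, neg_ne_zero]
      exact mul_ne_zero (mul_ne_zero (by decide) c1c) hua'
    have w2e' : w2.e ≠ 0 := by
      rw [w2e, neg_ne_zero]
      exact mul_ne_zero (mul_ne_zero (by decide) c2d') hua'
    have w2d' : w2.d = 0 := by rw [w2d, c2c]; ring
    have hz1 : w1 ∈ zpowers z := hw1 ▸ h u hu c1 c1M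
    have hz2 : w2 ∈ zpowers z := hw2 ▸ h u hu c2 c2M
    have hw1ne : w1 ≠ 1 := by
      rintro h1
      rw [h1] at w1d'
      exact w1d' rfl
    -- `w2` is a power of `w1`
    have hzo : Nat.card (zpowers z) = 5 := by
      have h1 : orderOf z ∣ 5 := orderOf_dvd_of_pow_eq_one hz
      rw [Nat.card_zpowers]
      rcases (Nat.dvd_prime (by norm_num : Nat.Prime 5)).1 h1 with h2 | h2
      · exfalso
        rw [orderOf_eq_one_iff] at h2
        rw [h2] at hz1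
        simp only [zpowers_one_eq_bot, mem_bot] at hz1
        exact hw1ne hz1
      · exact h2
    have hzz : zpowers w1 = zpowers z := by
      have h5 : (⟨w1, hz1⟩ : ↥(zpowers z)) ≠ 1 := fun h6 => hw1ne (congrArg Subtype.val h6)
      have : Fact (Nat.Prime 5) := ⟨by norm_num⟩
      have h7 := zpowers_eq_top_of_prime_card hzo h5
      apply le_antisymm
      · rw [zpowers_le]; exact hz1
      · intro x hx
        have h8 : (⟨x, hx⟩ : ↥(zpowers z)) ∈ zpowers (⟨w1, hz1⟩ : ↥(zpowers z)) := by rw [h7]; trivial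
        obtain ⟨k, hk⟩ := h8
        exact ⟨k, congrArg Subtype.val hk⟩
    classical
    rw [← hzz, mem_zpowers_iff_mem_range_orderOf] at hz2
    simp only [Finset.mem_image, Finset.mem_range] at hz2
    obtain ⟨k, hk, hk2⟩ := hz2
    have hord : orderOf w1 = 5 := by rw [← Nat.card_zpowers, hzz, hzo]
    rw [hord] at hk
    have h9 := (pow_coord w1 w1a w1b w1c k).2.2.2
    rw [hk2, w2d'] at h9
    have h10 : (k : ZMod 5) = 0 := (mul_eq_zero.1 h9.symm).resolve_right w1d'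
    rw [ZMod.natCast_eq_zero_iff] at h10
    have h11 : k = 0 := by
      rcases Nat.eq_zero_or_pos k with h12 | h12
      · exact h12
      · have := Nat.le_of_dvd h12 h10
        omega
    rw [h11, pow_zero] at hk2
    rw [← hk2] at w2e'
    exact w2e' rfl
  have hcM : Nat.card M * 5 = 5 ^ 6 := by
    have h1 := Subgroup.card_mul_index M
    rw [hM, hcard] at h1
    exact h1
  have hcA : Nat.card A5 = 5 ^ 5 := by
    rw [H103.GT.card_Qa, Nat.card_eq_fintype_card, ZMod.card]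
  exact Subgroup.eq_of_le_of_card_ge hle (by rw [hcA]; omega)

end Cfsg.Agent.H35.Q5
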