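import Cfsg.Agent.SporRec.LyFive

/-!
# S5211, block `q = 5`, row `Ly` (helper35): `720 ∣ |N(E)/C(E)|`

`F : LyFive L`: the part `2.A₆` of `C(t) = 2.A₁₁` on the six points fixed by the 5-cycle `f` centralizes `f`, normalizes `E` and
acts faithfully on `E`.
-/

set_option autoImplicit false

namespace Cfsg.Agent.H35.Q5

open Subgroup Equiv Cfsg Cfsg.Agent.SporRec.TwoAn Cfsg.Agent.SporRec.LyType Cfsg.Agent.SporRec.LyFive

/-- a normal subgroup of a double cover of a simple alternating group not containing `z` is trivial -/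
theorem Cover.eq_bot {α : Type*} [Fintype α] [DecidableEq α] {C : Type*} [Group C] (K : Cover α C) (h5 : 5 ≤ Fintype.card α)
    {N : Subgroup C} (hN : N.Normal) (hz : K.z ∉ N) : N = ⊥ := by
  have hs : IsSimpleGroup ↥(alternatingGroup α) := alternatingGroup.isSimpleGroup (by rwa [Nat.card_eq_fintype_card])
  let φ : C →* ↥(alternatingGroup α) := K.π.codRestrict (alternatingGroup α) K.mem_alternating
  have hφ : Function.Surjective φ := by
    intro σ
    obtain ⟨g, hg⟩ := K.exists_lift σ.2
    exact ⟨g, Subtype.ext hg⟩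
  rcases hs.eq_bot_or_eq_top_of_normal (N.map φ) (hN.map φ hφ) with h | h
  · rw [eq_bot_iff]
    intro n hn
    have h1 : φ n ∈ N.map φ := mem_map_of_mem φ hn
    rw [h, mem_bot] at h1
    have h2 : K.π n = 1 := congrArg Subtype.val h1
    rcases (K.ker n).1 h2 with h3 | h3
    · rw [h3]; exact one_mem _
    · rw [h3] at hn; exact absurd hn hz
  · exfalso
    obtain ⟨e⟩ : Nonempty (Fin 4 ↪ α) := Function.Embedding.nonempty_of_card_le (by rw [Fintype.card_fin]; omega)
    have hne : ∀ {i j : Fin 4}, i ≠ j → e i ≠ e j := fun h h' => h (e.injective h')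
    have h1 : (⟨swap (e 0) (e 1) * swap (e 2) (e 3), Cover.swap_mul_swap_mem _ _ _ _ (hne (by decide)) (hne (by decide))⟩ :
        ↥(alternatingGroup α)) ∈ N.map φ := by
      rw [h]; trivial
    obtain ⟨n, hn, hne'⟩ := h1
    have h2 : K.π n = swap (e 0) (e 1) * swap (e 2) (e 3) := congrArg Subtype.val hne'
    have h3 := K.dbl (e 0) (e 1) (e 2) (e 3) (hne (by decide)) (hne (by decide)) (hne (by decide)) (hne (by decide))
      (hne (by decide)) (hne (by decide)) n h2
    exact hz (h3 ▸ mul_mem hn hn)

theorem Cover.card {α : Type*} [Fintype α] [DecidableEq α] {C : Type*} [Group C] [Finite C] (K : Cover α C)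
    (h2 : 2 ≤ Fintype.card α) : Nat.card C = (Fintype.card α).factorial := by
  let φ : C →* ↥(alternatingGroup α) := K.π.codRestrict (alternatingGroup α) K.mem_alternating
  have hφ : Function.Surjective φ := by
    intro σ
    obtain ⟨g, hg⟩ := K.exists_lift σ.2
    exact ⟨g, Subtype.ext hg⟩
  have hker : φ.ker = zpowers K.z := by
    ext g
    rw [MonoidHom.mem_ker]
    constructor
    · intro h
      have h2 : K.π g = 1 := congrArg Subtype.val h
      rcases (K.ker g).1 h2 with h3 | h3
      · rw [h3]; exact one_mem _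
      · rw [h3]; exact mem_zpowers _
    · rintro ⟨k, rfl⟩
      show φ (K.z ^ k) = 1
      rw [map_zpow]
      have : φ K.z = 1 := Subtype.ext K.π_z
      rw [this, one_zpow]
  have h1 := Subgroup.card_eq_card_quotient_mul_card_subgroup φ.ker
  rw [Nat.card_congr (QuotientGroup.quotientKerEquivOfSurjective φ hφ).toEquiv, hker, Nat.card_zpowers, K.orderOf_z] at h1
  have : Nontrivial α := Fintype.one_lt_card_iff_nontrivial.1 (by omega)
  rw [h1, mul_comm, Nat.card_eq_fintype_card, two_mul_card_alternatingGroup, Fintype.card_perm]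

variable {G : Type*} [Group G] [Finite G] {L : LyType G}

theorem t_not_central (F : LyFive L) : ¬ ∀ e ∈ F.E, e * L.t = L.t * e := by
  intro h
  have h1 : F.E ≤ zpowers F.f := fun e he => F.cent_t e he (h e he)
  have h2 := Subgroup.card_le_of_le h1
  rw [F.card_E, Nat.card_zpowers] at h2
  have h3 : orderOf F.f ≤ 5 := Nat.le_of_dvd (by norm_num) (orderOf_dvd_of_pow_eq_one F.f_pow)
  omega

/-- **`2.A₆` acts faithfully on `E`** -/
theorem dvd_relIndex (F : LyFive L) : 720 ∣ (centralizer (F.E : Set G)).relIndex (normalizer (F.E : Set G)) := by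
  classical
  let f' : ↥(centralizer ({L.t} : Set G)) := ⟨F.f, L.mem_iff.2 F.f_comm⟩
  let p : Fin 11 → Prop := fun x => L.K.π f' x = x
  have hcard : Fintype.card (Subtype p) = 6 := by
    have h1 : (L.K.π f').support.card = 5 := by
      rw [← Perm.sum_cycleType, F.f_cycle]
      rfl
    have h2 : Fintype.card {x // ¬ p x} = 5 := by
      rw [Fintype.card_subtype]
      exact h1
    have h3 : Fintype.card (Subtype p) + Fintype.card {x // ¬ p x} = 11 := by
      rw [← Fintype.card_sum, Fintype.card_congr (Equiv.sumCompl p), Fintype.card_fin]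
    omega
  have hK := L.K.restrict p
  have hKz : ((L.K.restrict p).z : ↥(centralizer ({L.t} : Set G))) = L.K.z := rfl
  have hcomm : ∀ g : L.K.sub p, ((g : ↥(centralizer ({L.t} : Set G))) : G) * F.f = F.f * (g : ↥(centralizer ({L.t} : Set G))) := by
    intro g
    have h1 : (g : ↥(centralizer ({L.t} : Set G))) * f' = f' * g := by
      refine L.K.commute_of_disjoint fun x => ?_
      by_cases hx : p x
      · exact Or.inr hx
      · exact Or.inl (g.2 x hx)
    exact congrArg Subtype.val h1
  have hnorm : ∀ g : L.K.sub p, ((g : ↥(centralizer ({L.t} : Set G))) : G) ∈ normalizer (F.E : Set G) := by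
    have key : ∀ g : L.K.sub p, ∀ e ∈ F.E, ((g : ↥(centralizer ({L.t} : Set G))) : G) * e *
        ((g : ↥(centralizer ({L.t} : Set G))) : G)⁻¹ ∈ F.E := by
      intro g
      refine F.norm_E _ ?_
      rw [hcomm g, mul_inv_cancel_right]
      exact mem_zpowers _
    intro g
    rw [mem_normalizer_iff]
    intro e
    refine ⟨key g e, fun he => ?_⟩
    have h1 := key g⁻¹ _ he
    have h2 : ((g⁻¹ : L.K.sub p) : ↥(centralizer ({L.t} : Set G))) = ((g : ↥(centralizer ({L.t} : Set G))))⁻¹ := rfl
    rw [h2, Subgroup.coe_inv] at h1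
    have h3 : (((g : ↥(centralizer ({L.t} : Set G))) : G))⁻¹ * (((g : ↥(centralizer ({L.t} : Set G))) : G) * e *
        (((g : ↥(centralizer ({L.t} : Set G))) : G))⁻¹) * ((((g : ↥(centralizer ({L.t} : Set G))) : G))⁻¹)⁻¹ = e := by group
    rwa [h3] at h1
  -- the homomorphism into the quotient
  have hCn : ((centralizer (F.E : Set G)).subgroupOf (normalizer (F.E : Set G))).Normal := by
    refine ⟨fun c hc n => ?_⟩
    rw [mem_subgroupOf] at hc ⊢
    rw [mem_centralizer_iff] at hc ⊢
    intro e he
    have hn := (mem_normalizer_iff.1 ((normalizer (F.E : Set G)).inv_mem n.2) e).1 he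
    rw [inv_inv] at hn
    have h1 := hc _ hn
    show e * ((n : G) * c * (n : G)⁻¹) = (n : G) * c * (n : G)⁻¹ * e
    calc e * ((n : G) * c * (n : G)⁻¹) = (n : G) * (((n : G)⁻¹ * e * n) * c) * (n : G)⁻¹ := by group
      _ = (n : G) * (c * ((n : G)⁻¹ * e * n)) * (n : G)⁻¹ := by rw [h1]
      _ = (n : G) * c * (n : G)⁻¹ * e := by group
  let ψ : L.K.sub p →* ↥(normalizer (F.E : Set G)) :=
    ((centralizer ({L.t} : Set G)).subtype.comp (L.K.sub p).subtype).codRestrict (normalizer (F.E : Set G)) hnorm
  let χ := (QuotientGroup.mk' ((centralizer (F.E : Set G)).subgroupOf (normalizer (F.E : Set G)))).comp ψ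
  have hinj : Function.Injective χ := by
    rw [← MonoidHom.ker_eq_bot_iff]
    refine Cover.eq_bot (L.K.restrict p) (by rw [hcard]; norm_num) inferInstance fun hz => t_not_central F ?_
    rw [MonoidHom.mem_ker] at hz
    have h1 := (QuotientGroup.eq_one_iff _).1 hz
    rw [mem_subgroupOf, mem_centralizer_iff] at h1
    intro e he
    have h2 := h1 e he
    have h3 : ((ψ (L.K.restrict p).z : ↥(normalizer (F.E : Set G))) : G) = L.t := L.hz
    rw [h3] at h2
    exact h2
  have h1 := Subgroup.card_dvd_of_injective χ hinj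
  rw [Cover.card (L.K.restrict p) (by rw [hcard]; norm_num), hcard] at h1
  exact h1

theorem nine_dvd (F : LyFive L) : 9 ∣ (centralizer (F.E : Set G)).relIndex (normalizer (F.E : Set G)) :=
  Dvd.dvd.trans (by norm_num) (dvd_relIndex F)

end Cfsg.Agent.H35.Q5
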